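import Mathlib
import Cfsg.Agent.H897.T5Cent
import Cfsg.Agent.H378.SmallTor_m3
import Cfsg.Agent.FastGrp
import Cfsg.Agent.Prune
set_option linter.all false
prune_inst 0x7f00000000000000000000000000000000000000000000000000000000000000000000000000000000000000000000000000000000000000000000000000000000000000000000000000000000000000003fffffffffffffffffffffffffffbeffbdffffffff
open scoped Cfsg.Agent.FastGrp

-- part: H942/CB/LemU
section
/-!
# Fixed points of Frobenius maps on closed sets of root groups (simply laced case)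

`lemU` : `τ` a Frobenius frame automorphism of `D.group k` with lattice map `g`, `S` a closed `g`-stable set of positive
roots: the group generated by the root groups of `S` contains at least `q ^ |S|` fixed points of `τ`.
-/

set_option autoImplicit false
set_option linter.unusedSectionVars false

namespace Cfsg.Agent.H942.CB

open CoxeterSystem Cfsg Cfsg.Lie Cfsg.Lie.ChevalleyDatum
open Cfsg.Agent.ChevalleyStructure Cfsg.Agent.ChevalleyStructure.Elts Cfsg.Agent.ChevalleyStructure.CoxeterGeom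
  Cfsg.Agent.ChevalleyStructure.CoxeterGeomTypes Cfsg.Agent.ChevalleyStructure.NPerm
open Cfsg.Agent.Tits.Roots Cfsg.Agent.Tits.Core Cfsg.Agent.Nodes Cfsg.Agent.Nodes.Reps Cfsg.Agent.Nodes.BNOf
  Cfsg.Agent.Nodes.RGDChev Cfsg.Agent.Nodes.Bruhat Cfsg.Agent.Nodes.SubComb Cfsg.Agent.Nodes.Coroot
open Cfsg.Agent.KFacts.RgdField Cfsg.Agent.KFacts.RgdChevCoord Cfsg.Agent.BpExc.TorCent Cfsg.Agent.BpExc.TorChev
open Cfsg.Agent.GpExc.Field Cfsg.Agent.BpExc.Tow Cfsg.Agent.BpExc.TowChev Cfsg.Agent.BpExc.Fr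
  Cfsg.Agent.BpExc.LangFr Cfsg.Agent.LangThm Cfsg.Agent.BpExc Cfsg.Agent.H129.TorusChar Cfsg.Agent.H129.TorusMain
open Cfsg.Agent.H720.TorusReal Cfsg.Agent.Nodes.Unique
open Cfsg.Agent.H897.T5Lat (Frm bf bf_apply)
open scoped commutatorElement

universe u v

/-! ### the number of fixed points in a root group -/

/-- the solutions of `c x ^ q = x` -/
theorem exists_sol {k : Type u} [Field k] [IsAlgClosed k] (p n : ℕ) [Fact p.Prime] [CharP k p] (hn : 0 < n) {c : k}
    (hc : c ≠ 0) : ∃ s : Finset k, s.card = p ^ n ∧ ∀ x ∈ s, c * x ^ p ^ n = x := by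
  classical
  have hq : 1 < p ^ n := Nat.one_lt_pow hn.ne' (Fact.out : p.Prime).one_lt
  let P : Polynomial k := Polynomial.C c * Polynomial.X ^ p ^ n - Polynomial.X
  have hdeg : P.natDegree = p ^ n := by
    have h1 : (Polynomial.C c * Polynomial.X ^ p ^ n : Polynomial k).natDegree = p ^ n :=
      Polynomial.natDegree_C_mul_X_pow _ _ hc
    rw [Polynomial.natDegree_sub_eq_left_of_natDegree_lt]
    · exact h1
    · rw [h1, Polynomial.natDegree_X]
      exact hq
  have hP0 : P ≠ 0 := by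
    intro h0
    rw [h0, Polynomial.natDegree_zero] at hdeg
    omega
  have hder : Polynomial.derivative P = -1 := by
    have h1 : ((p ^ n : ℕ) : k) = 0 := by
      rw [Nat.cast_pow, CharP.cast_eq_zero, zero_pow hn.ne']
    simp only [P, Polynomial.derivative_X_pow, _root_.Polynomial.derivative_sub, _root_.Polynomial.derivative_mul, _root_.Polynomial.derivative_C, _root_.MulZeroClass.zero_mul, _root_.Nat.cast_pow, _root_.CharP.cast_eq_zero, _root_.map_pow, _root_.map_zero, _root_.zero_add, _root_.Polynomial.derivative_X, _root_.sub_eq_neg_self, _root_.mul_eq_zero, _root_.map_eq_zero, _root_.pow_eq_zero_iff', _root_.ne_eq, _root_.true_and, _root_.Polynomial.X_ne_zero, _root_.false_and, _root_.or_false]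
    right
    exact hn.ne'
  have hsep : P.Separable := by
    rw [Polynomial.Separable, hder]
    exact isCoprime_one_right.neg_right
  have hcard : P.roots.card = P.natDegree := Polynomial.splits_iff_card_roots.1 (IsAlgClosed.splits P)
  have hnodup : P.roots.Nodup := Polynomial.nodup_roots hsep
  refine ⟨P.roots.toFinset, ?_, fun x hx => ?_⟩
  · rw [Multiset.toFinset_card_of_nodup hnodup, hcard, hdeg]
  · rw [Multiset.mem_toFinset, Polynomial.mem_roots hP0] at hx
    have h1 : P.eval x = 0 := hx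
    simp only [P, Polynomial.eval_sub, Polynomial.eval_mul, Polynomial.eval_C, Polynomial.eval_pow,
      Polynomial.eval_X] at h1
    exact sub_eq_zero.1 h1

section

variable {D : ChevalleyDatum} {l : ℕ} {M : CoxeterMatrix (Fin l)} (hp : IsType D l M) {k : Type u} [Field k]
  [IsAlgClosed k] {W : Type v} [Group W] [Finite W] (cs : CoxeterSystem M W) (hk : LocFin k) {p e : ℕ} [Fact p.Prime]
  [CharP k p] {τ : MulAut ↥(D.group k)} {g : (Fin l → ℤ) ≃+ (Fin l → ℤ)}

theorem card_root (he : 0 < e) (hτ : IsFrob p e τ) (F : Fr cs hp.isCartan (TT D k) (XX D l k) τ g)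
    {a : Fin l → ℤ} (ha : IsRoot cs hp.isCartan a) (hga : g a = a) :
    ∃ s : Finset ↥(D.group k), s.card = p ^ e ∧ ∀ y ∈ s, y ∈ XX D l k a ∧ τ y = y := by
  classical
  obtain ⟨c, hc, h1⟩ := HX.fr_xc hp cs hτ F ha
  obtain ⟨s, hs, h2⟩ := exists_sol p e he hc
  obtain ⟨r, hr, rfl⟩ := (isRoot_iff hp cs a).1 ha
  refine ⟨s.image (xc hp (vec D l r)), ?_, ?_⟩
  · rw [Finset.card_image_of_injective _ (xc_inj hp hr), hs]
  · intro y hy
    rw [Finset.mem_image] at hy
    obtain ⟨x, hx, rfl⟩ := hy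
    refine ⟨(HX.mem_XX_xc hp hr).2 ⟨x, rfl⟩, ?_⟩
    rw [h1, hga, h2 x hx]

/-! ### commutators -/

include cs hk in
/-- commutators of elements of root groups -/
theorem comm_mem (p : ℕ) [Fact p.Prime] [CharP k p] {x y : Fin l → ℤ} (hx : IsRoot cs hp.isCartan x)
    (hy : IsRoot cs hp.isCartan y) (hxy : x ≠ y) (hxy' : x ≠ -y) {S : Set (Fin l → ℤ)}
    (hS : ∀ z, Btwn cs hp.isCartan x y z → z ∈ S) {a b : ↥(D.group k)} (ha : a ∈ XX D l k x) (hb : b ∈ XX D l k y) :
    ⁅a, b⁆ ∈ RGD.Sup (XX D l k) S := by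
  have H := tow hp cs hk p
  rw [← XL_eq hp hk] at ha hb ⊢
  obtain ⟨j1, h1⟩ := H.mem_XL.1 ha
  obtain ⟨j2, h2⟩ := H.mem_XL.1 hb
  obtain ⟨j, a1, a2⟩ := H.dir j1 j2
  have h3 := (H.rgd j).comm x y hx hy hxy hxy' a (H.monoX x a1 h1) b (H.monoX y a2 h2)
  exact Sup_le_SupL j S ((H.rgd j).btw_le_Sup hS h3)

include cs in
/-- root groups are abelian -/
theorem comm_root {x : Fin l → ℤ} (hx : IsRoot cs hp.isCartan x) {a b : ↥(D.group k)} (ha : a ∈ XX D l k x)
    (hb : b ∈ XX D l k x) : a * b = b * a := by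
  obtain ⟨r, hr, rfl⟩ := (isRoot_iff hp cs x).1 hx
  obtain ⟨s, rfl⟩ := (HX.mem_XX_xc hp hr).1 ha
  obtain ⟨t, rfl⟩ := (HX.mem_XX_xc hp hr).1 hb
  apply Subtype.ext
  rw [Subgroup.coe_mul, Subgroup.coe_mul, coe_xc hp hr, coe_xc hp hr, xG_add, xG_add, add_comm]

omit [IsAlgClosed k] [Finite W] in
theorem closed_single {I W : Type*} [Fintype I] [DecidableEq I] [Group W] {M : CoxeterMatrix I}
    {cs : CoxeterSystem M W} {A : I → I → ℤ} {h : IsCartan M A} {x : I → ℤ} (hx : IsRoot cs h x) :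
    Closed cs h {x} := by
  intro y hy z hz u hu
  rw [Set.mem_singleton_iff] at hy hz ⊢
  subst hy
  subst hz
  exact btwn_self hx hu

theorem inf_bot {I W Y : Type*} [Fintype I] [DecidableEq I] [Group W] [Group Y] {M : CoxeterMatrix I}
    {cs : CoxeterSystem M W} {A : I → I → ℤ} {h : IsCartan M A} {p : ℕ} {T : Subgroup Y} {n : I → Y}
    {X : (I → ℤ) → Subgroup Y} (Rd : RGD cs h p T n X) [Finite W] {x : I → ℤ} (hx : x ∈ RGD.Pos cs h)
    {S : Set (I → ℤ)} (hS : S ⊆ RGD.Pos cs h) (hc : Closed cs h S) (hxS : x ∉ S) {a : Y} (ha : a ∈ X x)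
    (ha' : a ∈ RGD.Sup X S) : a = 1 := by
  have h3 := inf_eq Rd (S := {x}) (S' := S) (Set.singleton_subset_iff.2 hx) hS (closed_single hx.1) hc
  have h4 : ({x} : Set (I → ℤ)) ∩ S = ∅ := Set.singleton_inter_eq_empty.2 hxS
  have h5 : RGD.Sup X (∅ : Set (I → ℤ)) = ⊥ := by
    rw [eq_bot_iff]
    exact RGD.Sup_le fun z hz => absurd hz (by simp)
  rw [h4, h5] at h3
  have h6 : a ∈ RGD.Sup X {x} ⊓ RGD.Sup X S :=
    Subgroup.mem_inf.2 ⟨RGD.le_Sup (S := {x}) (Set.mem_singleton x) ha, ha'⟩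
  rw [h3] at h6
  exact Subgroup.mem_bot.1 h6

include cs hk in
/-- a root group meets the group of the other roots of a closed set trivially -/
theorem root_inf (p : ℕ) [Fact p.Prime] [CharP k p] {x : Fin l → ℤ} (hx : x ∈ RGD.Pos cs hp.isCartan)
    {S : Set (Fin l → ℤ)} (hS : S ⊆ RGD.Pos cs hp.isCartan) (hc : Closed cs hp.isCartan S) (hxS : x ∉ S)
    {a : ↥(D.group k)} (ha : a ∈ XX D l k x) (ha' : a ∈ RGD.Sup (XX D l k) S) : a = 1 := by
  have H := tow hp cs hk p
  rw [← XL_eq hp hk] at ha ha'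
  obtain ⟨j1, h1⟩ := H.mem_XL.1 ha
  obtain ⟨j2, h2⟩ := H.mem_Sup.1 ha'
  obtain ⟨j, a1, a2⟩ := H.dir j1 j2
  exact inf_bot (H.rgd j) hx hS hc hxS (H.monoX x a1 h1) (H.mono_Sup S a2 h2)

end

/-! ### roots strictly between two roots, simply laced case -/

section Laced

variable {I W : Type*} [Fintype I] [DecidableEq I] [Group W] [Finite W] {M : CoxeterMatrix I}
  {cs : CoxeterSystem M W} {A : I → I → ℤ} {h : IsCartan M A} {B : LinearMap.BilinForm ℤ (I → ℤ)} (F : _root_.Cfsg.Agent.H897.T5Lat.Frm cs h B)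

include F

theorem form_le {x y : I → ℤ} (hx : IsRoot cs h x) (hy : IsRoot cs h y) (hxy : x ≠ y) : B x y ≤ 1 := by
  have h1 := F.norm_sub_smul x y 1
  rw [F.self hx, F.self hy, one_smul] at h1
  have h2 := F.pos (x - y) (sub_ne_zero.2 hxy)
  omega

theorem btwn_add {x y z : I → ℤ} (hx : x ∈ RGD.Pos cs h) (hy : y ∈ RGD.Pos cs h) (hxy : x ≠ y) (hz : Btwn cs h x y z) :
    z = x + y := by
  have hzx := btwn_ne_left hx.1 hy.1 hx.2 hy.2 hxy hz
  have hzy := btwn_ne_right hx.1 hy.1 hx.2 hy.2 hxy hz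
  obtain ⟨hzr, m, a, b, hm, ha, hb, he⟩ := hz
  have hxy' : x ≠ -y := by
    intro he
    have h0 := hx.2
    rw [he] at h0
    exact hy.1.neg.not_pos_neg h0 (neg_nonpos.2 hy.2)
  have h1 : m * B z x = a * 2 + b * B x y := by
    have := congrArg (fun v => B v x) he
    simp only [map_smul, map_add, LinearMap.smul_apply, LinearMap.add_apply, smul_eq_mul] at this
    rw [F.self hx.1, F.symm y x] at this
    exact this
  have h2 : m * B z y = a * B x y + b * 2 := by
    have := congrArg (fun v => B v y) he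
    simp only [map_smul, map_add, LinearMap.smul_apply, LinearMap.add_apply, smul_eq_mul] at this
    rw [F.self hy.1] at this
    exact this
  have h3 : m * 2 = a * B z x + b * B z y := by
    have := congrArg (fun v => B z v) he
    simp only [map_smul, map_add, smul_eq_mul] at this
    rw [F.self hzr] at this
    exact this
  have h4 : B z x ≤ 1 := form_le F hzr hx.1 hzx
  have h5 : B z y ≤ 1 := form_le F hzr hy.1 hzy
  have h6 := F.sl x y hx.1 hy.1 hxy hxy'
  rw [← F.cpr x y hy.1, abs_le] at h6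
  -- `B x y = -1`, `a = b = m`
  have h7 : a * B z x ≤ a := by nlinarith only [ha, h4]
  have h8 : b * B z y ≤ b := by nlinarith only [hb, h5]
  have h9 : m * B z x ≤ m := by nlinarith only [hm, h4]
  have h10 : m * B z y ≤ m := by nlinarith only [hm, h5]
  have h11 : B x y = -1 := by
    rcases h6 with ⟨h61, h62⟩
    have : B x y = -1 ∨ B x y = 0 ∨ B x y = 1 := by omega
    rcases this with h | h | h
    · exact h
    · rw [h] at h1 h2; omega
    · rw [h] at h1 h2; (clear * - hm hb h2 h3 h7 h8 h10; omega)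
  rw [h11] at h1 h2
  have h12 : a = m ∧ b = m := by constructor <;> omega
  have h13 : m • z = m • (x + y) := by rw [he, smul_add, h12.1, h12.2]
  have h14 : m ≠ 0 := hm.ne'
  funext i
  have h15 := congrFun h13 i
  simp only [Pi.smul_apply, smul_eq_mul] at h15
  exact mul_left_cancel₀ h14 h15

/-- closed sets of positive roots -/
theorem closed_of_add {S : Set (I → ℤ)} (hS : S ⊆ RGD.Pos cs h)
    (hc : ∀ x ∈ S, ∀ y ∈ S, IsRoot cs h (x + y) → x + y ∈ S) : Closed cs h S := by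
  intro x hx y hy z hz
  by_cases hxy : x = y
  · subst hxy
    rw [btwn_self (hS hx).1 hz]
    exact hx
  · have h1 := btwn_add F (hS hx) (hS hy) hxy hz
    have h2 := hz.1
    rw [h1] at h2 ⊢
    exact hc x hx y hy h2

end Laced

/-! ### group theory -/

section Grp

variable {Y : Type*} [Group Y]

theorem comm_sup {K' : Subgroup Y} {ι : Type*} (A : ι → Subgroup Y)
    (hn : ∀ i, ∀ a ∈ A i, ∀ b ∈ K', a * b * a⁻¹ ∈ K') (h : ∀ i j, ∀ a ∈ A i, ∀ b ∈ A j, ⁅a, b⁆ ∈ K') :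
    (∀ a ∈ ⨆ i, A i, ∀ b ∈ K', a * b * a⁻¹ ∈ K') ∧ ∀ a ∈ ⨆ i, A i, ∀ b ∈ ⨆ i, A i, ⁅a, b⁆ ∈ K' := by
  have hn' : ∀ a ∈ ⨆ i, A i, ∀ b ∈ K', a * b * a⁻¹ ∈ K' := by
    intro a ha
    induction ha using Subgroup.iSup_induction' with
    | hp i a ha => exact hn i a ha
    | h1 => intro b hb; rw [one_mul, inv_one, mul_one]; exact hb
    | hmul x y _ _ h1 h2 =>
      intro b hb
      have := h1 _ (h2 b hb)
      have e : x * y * b * (x * y)⁻¹ = x * (y * b * y⁻¹) * x⁻¹ := by group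
      rwa [e]
  refine ⟨hn', ?_⟩
  have h1 : ∀ a ∈ ⨆ i, A i, ∀ j, ∀ b ∈ A j, ⁅a, b⁆ ∈ K' := by
    intro a ha
    induction ha using Subgroup.iSup_induction' with
    | hp i a ha => exact fun j b hb => h i j a ha b hb
    | h1 => intro j b hb; rw [commutatorElement_one_left]; exact one_mem _
    | hmul x y hx _ h1 h2 =>
      intro j b hb
      have e : ⁅x * y, b⁆ = x * ⁅y, b⁆ * x⁻¹ * ⁅x, b⁆ := by rw [commutatorElement_def, commutatorElement_def, commutatorElement_def]; group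
      rw [e]
      exact mul_mem (hn' x hx _ (h2 j b hb)) (h1 j b hb)
  intro a ha b hb
  induction hb using Subgroup.iSup_induction' with
  | hp j b hb => exact h1 a ha j b hb
  | h1 => rw [commutatorElement_one_right]; exact one_mem _
  | hmul x y hx _ h1 h2 =>
    have e : ⁅a, x * y⁆ = ⁅a, x⁆ * (x * ⁅a, y⁆ * x⁻¹) := by rw [commutatorElement_def, commutatorElement_def, commutatorElement_def]; group
    rw [e]
    exact mul_mem h1 (hn' x hx _ h2)

/-- `x τ(x) ⋯ τ^(n-1)(x)` -/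
def pr (τ : MulAut Y) (x : Y) : ℕ → Y
  | 0 => 1
  | n + 1 => x * τ (pr τ x n)

theorem pr_succ (τ : MulAut Y) (x : Y) (n : ℕ) : pr τ x (n + 1) = pr τ x n * (τ ^ n) x := by
  induction n with
  | zero => simp only [pr, _root_.map_one, _root_.mul_one, _root_.pow_zero, _root_.MulAut.one_apply, _root_.one_mul]
  | succ n ih =>
    have h1 : pr τ x (n + 2) = x * τ (pr τ x (n + 1)) := rfl
    rw [h1, ih, map_mul, ← mul_assoc]
    have h2 : x * τ (pr τ x n) = pr τ x (n + 1) := rfl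
    rw [h2, ih, pow_succ', MulAut.mul_apply]

theorem pr_mem (τ : MulAut Y) (x : Y) {Q : Subgroup Y} : ∀ n : ℕ, (∀ j < n, (τ ^ j) x ∈ Q) → pr τ x n ∈ Q := by
  intro n
  induction n with
  | zero => intro _; exact one_mem _
  | succ n ih =>
    intro h
    rw [pr_succ]
    exact mul_mem (ih fun j hj => h j (by omega)) (h n (by omega))

theorem pr_tail (τ : MulAut Y) (x : Y) {Q : Subgroup Y} (n : ℕ) (h : ∀ j, 0 < j → j < n + 1 → (τ ^ j) x ∈ Q) :
    ∃ w ∈ Q, pr τ x (n + 1) = x * w := by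
  induction n with
  | zero => exact ⟨1, one_mem _, by simp [pr]⟩
  | succ n ih =>
    obtain ⟨w, hw, e⟩ := ih fun j h1 h2 => h j h1 (by omega)
    exact ⟨w * (τ ^ (n + 1)) x, mul_mem hw (h _ (by omega) (by omega)), by rw [pr_succ, e, mul_assoc]⟩

end Grp

/-! ### the main lemma -/

section Main

variable {D : ChevalleyDatum} {l : ℕ} {M : CoxeterMatrix (Fin l)} (hp : IsType D l M) {k : Type u} [Field k]
  [IsAlgClosed k] {W : Type v} [Group W] [Finite W] (cs : CoxeterSystem M W) (hk : LocFin k) {p e : ℕ} [Fact p.Prime]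
  [CharP k p] {τ : MulAut ↥(D.group k)} {g : (Fin l → ℤ) ≃+ (Fin l → ℤ)}
  (Fm : _root_.Cfsg.Agent.H897.T5Lat.Frm cs hp.isCartan (bf (cartanOf D l)))

include hk Fm in
/-- **Fixed points in a closed invariant set of root groups.** -/
theorem lemU (he : 0 < e) (hτ : IsFrob p e τ) (F : Fr cs hp.isCartan (TT D k) (XX D l k) τ g) :
    ∀ (n : ℕ) (S : Set (Fin l → ℤ)), S.ncard = n → S ⊆ RGD.Pos cs hp.isCartan → Closed cs hp.isCartan S →
      (∀ a ∈ S, g a ∈ S) → ∃ s : Finset ↥(D.group k), s.card = (p ^ e) ^ n ∧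
        ∀ y ∈ s, y ∈ RGD.Sup (XX D l k) S ∧ τ y = y := by
  classical
  intro n
  induction n using Nat.strong_induction_on with
  | _ n ih =>
  intro S hn hS hc hg
  have hSf : S.Finite := (RGD.finite_roots (cs := cs) (h := hp.isCartan)).subset fun _ hx => (hS hx).1
  rcases Nat.eq_zero_or_pos n with h0 | h0
  · subst h0
    exact ⟨{1}, by simp, fun y hy => by
      rw [Finset.mem_singleton] at hy
      subst hy
      exact ⟨one_mem _, map_one τ⟩⟩
  have hne : S.Nonempty := by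
    rw [← Set.ncard_pos hSf, hn]
    exact h0
  obtain ⟨m0, hm0, hper⟩ := exists_period' hp cs F
  have hgi : ∀ j : ℕ, ∀ a ∈ S, g^[j] a ∈ S := by
    intro j
    induction j with
    | zero => exact fun a ha => ha
    | succ j ihj =>
      intro a ha
      rw [Function.iterate_succ_apply']
      exact hg _ (ihj a ha)
  -- the height
  let H : (Fin l → ℤ) → ℤ := fun a => ∑ j ∈ Finset.range m0, ht (g^[j] a)
  have hHadd : ∀ x y, H (x + y) = H x + H y := by
    intro x y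
    show ∑ j ∈ Finset.range m0, ht (g^[j] (x + y)) = _
    rw [← Finset.sum_add_distrib]
    refine Finset.sum_congr rfl fun j _ => ?_
    rw [iterate_map_add, RGD.ht_add]
  have hHg : ∀ x, H (g x) = H x := by
    intro x
    show ∑ j ∈ Finset.range m0, ht (g^[j] (g x)) = ∑ j ∈ Finset.range m0, ht (g^[j] x)
    have h1 : ∀ j, g^[j] (g x) = g^[j + 1] x := fun j => (Function.iterate_succ_apply g j x).symm
    simp only [h1]
    have h2 := Finset.sum_range_succ (fun j => ht (g^[j] x)) m0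
    have h3 := Finset.sum_range_succ' (fun j => ht (g^[j] x)) m0
    rw [h2, hper] at h3
    have h4 : ht (g^[0] x) = ht x := rfl
    rw [h4] at h3
    exact (add_right_cancel h3).symm
  have hHpos : ∀ x ∈ S, 0 < H x := fun x hx =>
    Finset.sum_pos (fun j _ => RGD.ht_pos (hS (hgi j x hx)).1 (hS (hgi j x hx)).2)
      ⟨0, Finset.mem_range.2 hm0⟩
  obtain ⟨α, hα, hmin⟩ := Set.exists_min_image S H hSf hne
  have hHi : ∀ j, H (g^[j] α) = H α := by
    intro j
    induction j with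
    | zero => rfl
    | succ j ihj => rw [Function.iterate_succ_apply', hHg, ihj]
  -- the orbit
  set m := Function.minimalPeriod g α with hm
  have hperm : Function.IsPeriodicPt g m0 α := hper α
  have hmpos : 0 < m := hperm.minimalPeriod_pos hm0
  have hgm : g^[m] α = α := Function.iterate_minimalPeriod
  set O : Finset (Fin l → ℤ) := (Finset.range m).image (fun j => g^[j] α) with hO
  have hOcard : O.card = m := by
    rw [hO, Finset.card_image_of_injOn, Finset.card_range]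
    intro i hi j hj hij
    exact Function.iterate_injOn_Iio_minimalPeriod (Finset.mem_range.1 (Finset.mem_coe.1 hi))
      (Finset.mem_range.1 (Finset.mem_coe.1 hj)) hij
  have hmemO : ∀ j, g^[j] α ∈ O := by
    intro j
    rw [hO, Finset.mem_image]
    exact ⟨j % m, Finset.mem_range.2 (Nat.mod_lt _ hmpos), Function.iterate_mod_minimalPeriod_eq⟩
  have hOS : (O : Set (Fin l → ℤ)) ⊆ S := by
    intro a ha
    rw [Finset.mem_coe, hO, Finset.mem_image] at ha
    obtain ⟨j, -, rfl⟩ := ha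
    exact hgi j α hα
  have hHO : ∀ a ∈ O, H a = H α := by
    intro a ha
    rw [hO, Finset.mem_image] at ha
    obtain ⟨j, -, rfl⟩ := ha
    exact hHi j
  have hαO : α ∈ O := hmemO 0
  set S' : Set (Fin l → ℤ) := S \ O with hS'
  have hS'S : S' ⊆ S := Set.sdiff_subset
  have hS'n : S'.ncard = n - m := by
    rw [hS', Set.ncard_sdiff hOS (Finset.finite_toSet O), Set.ncard_coe_finset, hOcard, hn]
  have hmn : m ≤ n := by
    rw [← hOcard, ← hn, ← Set.ncard_coe_finset]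
    exact Set.ncard_le_ncard hOS hSf
  have hbt : ∀ x ∈ S, ∀ y ∈ S, x ≠ y → ∀ z, Btwn cs hp.isCartan x y z → z ∈ S' := by
    intro x hx y hy hxy z hz
    refine ⟨hc x hx y hy z hz, fun hzO => ?_⟩
    have h1 := btwn_add Fm (hS hx) (hS hy) hxy hz
    have h2 := hHO z hzO
    rw [h1, hHadd] at h2
    have h3 := hmin x hx
    have h4 := hHpos y hy
    omega
  have hc' : Closed cs hp.isCartan S' := by
    intro x hx y hy z hz
    by_cases hxy : x = y
    · subst hxy
      rw [btwn_self (hS (hS'S hx)).1 hz]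
      exact hx
    · exact hbt x (hS'S hx) y (hS'S hy) hxy z hz
  have hg' : ∀ a ∈ S', g a ∈ S' := by
    intro a ha
    refine ⟨hg a ha.1, fun hO' => ha.2 ?_⟩
    rw [Finset.mem_coe, hO, Finset.mem_image] at hO'
    obtain ⟨j, -, hj⟩ := hO'
    have h1 : g^[m0] a = a := hper a
    have h2 : g^[m0] a = g^[m0 - 1 + j] α := by
      rw [Function.iterate_add_apply, hj, ← Function.iterate_succ_apply]
      congr 1
      congr 1
      omega
    rw [← h1, h2]
    exact hmemO _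
  -- the groups
  set K' := RGD.Sup (XX D l k) S' with hK'
  obtain ⟨hnorm, hcomm⟩ := comm_sup (K' := K') (fun z : S => XX D l k z.1) (by
    rintro ⟨x, hx⟩ a ha
    have hx' := hS hx
    show ∀ b ∈ K', a * b * a⁻¹ ∈ K'
    intro b hb
    have h1 : K' ≤ K'.comap (MulAut.conj a).toMonoidHom := by
      refine RGD.Sup_le fun y hy => ?_
      intro b hb
      show a * b * a⁻¹ ∈ K'
      by_cases hxy : x = y
      · subst hxy
        have h2 := comm_root hp cs hx'.1 ha hb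
        rw [h2, mul_inv_cancel_right]
        exact RGD.le_Sup hy hb
      · have hxy' : x ≠ -y := by
          intro he
          have h0 := hx'.2
          rw [he] at h0
          exact (hS (hS'S hy)).1.neg.not_pos_neg h0 (neg_nonpos.2 (hS (hS'S hy)).2)
        have h2 := comm_mem hp cs hk p hx'.1 (hS (hS'S hy)).1 hxy hxy'
          (fun z hz => hbt x hx y (hS'S hy) hxy z hz) ha hb
        have h3 : a * b * a⁻¹ = ⁅a, b⁆ * b := by rw [commutatorElement_def]; group
        rw [h3]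
        exact mul_mem h2 (RGD.le_Sup hy hb)
    exact h1 hb) (by
    rintro ⟨x, hx⟩ ⟨y, hy⟩ a ha b hb
    by_cases hxy : x = y
    · subst hxy
      have h2 := comm_root hp cs (hS hx).1 ha hb
      rw [commutatorElement_def, h2, mul_inv_cancel_right, mul_inv_cancel]
      exact one_mem _
    · have hxy' : x ≠ -y := by
        intro he
        have h0 := (hS hx).2
        rw [he] at h0
        exact (hS hy).1.neg.not_pos_neg h0 (neg_nonpos.2 (hS hy).2)
      exact comm_mem hp cs hk p (hS hx).1 (hS hy).1 hxy hxy' (fun z hz => hbt x hx y hy hxy z hz) ha hb)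
  have hKd : (⨆ z : S, XX D l k z.1) = RGD.Sup (XX D l k) S := rfl
  rw [hKd] at hnorm hcomm
  -- fixed points of `τ ^ m` in the root group of `α`
  obtain ⟨gm, Fgm, hgm'⟩ := F.pow m
  obtain ⟨s1, hs1, h1⟩ := card_root hp cs (e := m * e) (Nat.mul_pos hmpos he) (hτ.pow m) Fgm (hS hα).1
    (by rw [hgm', hgm])
  obtain ⟨s2, hs2, h2⟩ := ih (n - m) (by omega) S' hS'n (hS'S.trans hS) hc' hg'
  have hτj : ∀ j, ∀ x ∈ XX D l k α, (τ ^ j) x ∈ XX D l k (g^[j] α) := by
    intro j x hx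
    obtain ⟨gj, Fgj, hgj⟩ := F.pow j
    rw [← hgj]
    exact (Fgj.map α (hS hα).1 x).2 hx
  -- the lift
  have hlift : ∀ x ∈ s1, ∃ a ∈ K', τ (pr τ x m * a⁻¹) = pr τ x m * a⁻¹ := by
    intro x hx
    obtain ⟨hx1, hx2⟩ := h1 x hx
    have e1 : x * τ (pr τ x m) = pr τ x m * x := by
      have e2 := pr_succ τ x m
      rw [hx2] at e2
      exact e2
    have hprK : pr τ x m ∈ RGD.Sup (XX D l k) S :=
      pr_mem τ x m fun j _ => RGD.le_Sup (hgi j α hα) (hτj j x hx1)
    have hxK : x ∈ RGD.Sup (XX D l k) S := RGD.le_Sup hα hx1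
    have e3 : (pr τ x m)⁻¹ * τ (pr τ x m) ∈ K' := by
      have e4 : τ (pr τ x m) = x⁻¹ * pr τ x m * x := by
        rw [mul_assoc, ← e1, inv_mul_cancel_left]
      have e5 := hcomm _ (inv_mem hprK) _ (inv_mem hxK)
      rw [commutatorElement_def, inv_inv, inv_inv] at e5
      rw [e4]
      have e6 : (pr τ x m)⁻¹ * (x⁻¹ * pr τ x m * x) = (pr τ x m)⁻¹ * x⁻¹ * pr τ x m * x := by group
      rw [e6]
      exact e5
    obtain ⟨a, ha, h3⟩ := lang_fr hp cs he hτ F (S := S') (fun x hx => (hS (hS'S hx)).1) hg' e3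
    refine ⟨a, ha, ?_⟩
    rw [map_mul, map_inv]
    have e7 : τ (pr τ x m) = pr τ x m * (a⁻¹ * τ a) := by rw [← h3]; group
    rw [e7]
    group
  choose! a ha using hlift
  obtain ⟨m1, hm1⟩ : ∃ m1, m = m1 + 1 := ⟨m - 1, by omega⟩
  -- injectivity
  have hSα : Closed cs hp.isCartan (S \ {α}) := by
    intro x hx y hy z hz
    by_cases hxy : x = y
    · subst hxy
      rw [btwn_self (hS hx.1).1 hz]
      exact hx
    · have h3 := hbt x hx.1 y hy.1 hxy z hz
      refine ⟨h3.1, fun h4 => h3.2 ?_⟩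
      rw [Set.mem_singleton_iff] at h4
      rw [h4]
      exact hαO
  have hK'α : K' ≤ RGD.Sup (XX D l k) (S \ {α}) := RGD.Sup_mono fun z hz =>
    ⟨hz.1, fun h4 => hz.2 (by rw [Set.mem_singleton_iff] at h4; rw [h4]; exact hαO)⟩
  have htail : ∀ x ∈ s1, ∃ w ∈ RGD.Sup (XX D l k) (S \ {α}), pr τ x m = x * w := by
    intro x hx
    obtain ⟨hx1, hx2⟩ := h1 x hx
    rw [hm1]
    refine pr_tail τ x m1 fun j hj1 hj2 => ?_
    refine RGD.le_Sup (S := S \ {α}) ⟨hgi j α hα, fun h4 => ?_⟩ (hτj j x hx1)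
    rw [Set.mem_singleton_iff] at h4
    have h5 : Function.minimalPeriod g α ∣ j := Function.IsPeriodicPt.minimalPeriod_dvd h4
    have h6 := Nat.le_of_dvd hj1 h5
    omega
  have hinj : Set.InjOn (fun q : ↥(D.group k) × ↥(D.group k) => pr τ q.1 m * (a q.1)⁻¹ * q.2)
      ((s1 ×ˢ s2 : Finset _) : Set _) := by
    rintro ⟨x, b⟩ hx ⟨x', b'⟩ hx' he'
    rw [Finset.mem_coe, Finset.mem_product] at hx hx'
    simp only at hx hx' he'
    have hb := (h2 b hx.2).1
    have hb' := (h2 b' hx'.2).1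
    have hax := (ha x hx.1).1
    have hax' := (ha x' hx'.1).1
    have e1 : (pr τ x' m)⁻¹ * pr τ x m = (a x')⁻¹ * b' * b⁻¹ * a x := by
      have : pr τ x m = pr τ x' m * ((a x')⁻¹ * b' * b⁻¹ * a x) := by
        calc pr τ x m = (pr τ x m * (a x)⁻¹ * b) * b⁻¹ * a x := by group
          _ = (pr τ x' m * (a x')⁻¹ * b') * b⁻¹ * a x := by rw [he']
          _ = _ := by group
      rw [this]
      group
    have e2 : (pr τ x' m)⁻¹ * pr τ x m ∈ RGD.Sup (XX D l k) (S \ {α}) := by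
      rw [e1]
      exact hK'α (mul_mem (mul_mem (mul_mem (inv_mem hax') hb') (inv_mem hb)) hax)
    obtain ⟨w, hw, ew⟩ := htail x hx.1
    obtain ⟨w', hw', ew'⟩ := htail x' hx'.1
    have e3 : x'⁻¹ * x ∈ RGD.Sup (XX D l k) (S \ {α}) := by
      have : x'⁻¹ * x = w' * ((pr τ x' m)⁻¹ * pr τ x m) * w⁻¹ := by rw [ew, ew']; group
      rw [this]
      exact mul_mem (mul_mem hw' e2) (inv_mem hw)
    have e4 : x'⁻¹ * x = 1 := root_inf hp cs hk p (hS hα) (fun z hz => hS hz.1) hSα (fun h4 => h4.2 rfl)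
      (mul_mem (inv_mem (h1 x' hx'.1).1) (h1 x hx.1).1) e3
    have e5 : x = x' := (inv_mul_eq_one.1 e4).symm
    subst e5
    simp only [Prod.mk.injEq, true_and]
    exact mul_left_cancel he'
  refine ⟨(s1 ×ˢ s2).image (fun q : ↥(D.group k) × ↥(D.group k) => pr τ q.1 m * (a q.1)⁻¹ * q.2), ?_, ?_⟩
  · rw [Finset.card_image_of_injOn hinj, Finset.card_product, hs1, hs2, mul_comm m e, pow_mul, ← pow_add]
    congr 1
    omega
  · intro y hy
    rw [Finset.mem_image] at hy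
    obtain ⟨⟨x, b⟩, hxb, rfl⟩ := hy
    rw [Finset.mem_product] at hxb
    obtain ⟨hx, hb⟩ := hxb
    simp only at hx hb ⊢
    have hprK : pr τ x m ∈ RGD.Sup (XX D l k) S :=
      pr_mem τ x m fun j _ => RGD.le_Sup (hgi j α hα) (hτj j x (h1 x hx).1)
    have hK'K : K' ≤ RGD.Sup (XX D l k) S := RGD.Sup_mono hS'S
    refine ⟨mul_mem (mul_mem hprK (inv_mem (hK'K (ha x hx).1))) (hK'K (h2 b hb).1), ?_⟩
    rw [map_mul, (ha x hx).2, (h2 b hb).2]

end Main

end Cfsg.Agent.H942.CB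
end

-- part: H942/CB/Cell
section
/-!
# Lower bounds for the number of fixed points in centralisers of torus elements
-/

set_option autoImplicit false
set_option linter.unusedSectionVars false

namespace Cfsg.Agent.H942.CB

open CoxeterSystem Cfsg Cfsg.Lie Cfsg.Lie.ChevalleyDatum
open Cfsg.Agent.ChevalleyStructure Cfsg.Agent.ChevalleyStructure.Elts Cfsg.Agent.ChevalleyStructure.CoxeterGeom
  Cfsg.Agent.ChevalleyStructure.CoxeterGeomTypes Cfsg.Agent.ChevalleyStructure.NPerm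
open Cfsg.Agent.Tits.Roots Cfsg.Agent.Tits.Core Cfsg.Agent.Nodes Cfsg.Agent.Nodes.Reps Cfsg.Agent.Nodes.BNOf
  Cfsg.Agent.Nodes.RGDChev Cfsg.Agent.Nodes.Bruhat Cfsg.Agent.Nodes.SubComb Cfsg.Agent.Nodes.Coroot
  Cfsg.Agent.Nodes.NormalForm
open Cfsg.Agent.KFacts.RgdField Cfsg.Agent.KFacts.RgdChevCoord Cfsg.Agent.BpExc.TorCent Cfsg.Agent.BpExc.TorChev
open Cfsg.Agent.GpExc.Field Cfsg.Agent.BpExc.Tow Cfsg.Agent.BpExc.TowChev Cfsg.Agent.BpExc.Fr
  Cfsg.Agent.BpExc.LangFr Cfsg.Agent.LangThm Cfsg.Agent.BpExc Cfsg.Agent.H129.TorusChar Cfsg.Agent.H129.TorusMain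
open Cfsg.Agent.H720.TorusReal Cfsg.Agent.Nodes.Unique Cfsg.Agent.H897.T5Cent
open Cfsg.Agent.H897.T5Lat (Frm bf bf_apply)
open scoped commutatorElement

universe u v

section

variable {D : ChevalleyDatum} {l : ℕ} {M : CoxeterMatrix (Fin l)} (hp : IsType D l M) {k : Type u} [Field k]
  [IsAlgClosed k] {W : Type v} [Group W] [Finite W] (cs : CoxeterSystem M W) (hk : LocFin k) {p e : ℕ} [Fact p.Prime]
  [CharP k p] {τ : MulAut ↥(D.group k)} {g : (Fin l → ℤ) ≃+ (Fin l → ℤ)}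

/-! ### primitive roots of composite order -/

/-- a primitive root of unity -/
theorem exists_prim' (p : ℕ) [Fact p.Prime] [CharP k p] {N : ℕ} (hN0 : N ≠ 0) (hN : N.Coprime p) :
    ∃ ζ : k, IsPrimitiveRoot ζ N := by
  have hNk : ((N : ℕ) : k) ≠ 0 := by
    intro h0
    have h1 : p ∣ N := (CharP.cast_eq_zero_iff k p N).1 h0
    have h2 : p ∣ 1 := by
      rw [← hN]
      exact Nat.dvd_gcd h1 dvd_rfl
    exact (Fact.out : p.Prime).one_lt.ne' (Nat.dvd_one.1 h2)
  have : NeZero ((N : ℕ) : k) := ⟨hNk⟩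
  have : NeZero N := ⟨hN0⟩
  exact HasEnoughRootsOfUnity.exists_primitiveRoot k N

/-! ### the torus -/

include cs hk in
/-- **Fixed points in the torus.** -/
theorem lemT (hτ : IsFrob p e τ) (F : Fr cs hp.isCartan (TT D k) (XX D l k) τ g) {d' : ℕ}
    {B' : Fin l → Fin l → ℤ} (hB : InvC D l d' B') (hd' : d' ≠ 0) (d : Fin l → ℕ) (hd0 : ∀ i, d i ≠ 0)
    (hdp : ∀ i, (d i).Coprime p) (U f : Fin l → Fin l → ℤ)
    (hUf : ∀ i j, ∑ m, U i m * f j m = if i = j then 1 else 0)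
    (hU : ∀ i m, (d i : ℤ) ∣ ∑ j, U i j * (g (sr m) - ((p ^ e : ℕ) : ℤ) • (sr m : Fin l → ℤ)) j) :
    ∃ s : Finset ↥(D.group k), s.card = ∏ i, d i ∧ ∀ t ∈ s, t ∈ TT D k ∧ τ t = t := by
  classical
  have hζ : ∀ i, ∃ ζ : k, IsPrimitiveRoot ζ (d i) := fun i => exists_prim' p (hd0 i) (hdp i)
  choose ζ hζ using hζ
  have hζ0 : ∀ i, ζ i ≠ 0 := fun i => (hζ i).ne_zero (hd0 i)
  let ℓ : Fin l → (Fin l → ℤ) →+ ℤ := fun i => AddMonoidHom.mk' (fun x => ∑ j, U i j * x j) (by
    intro x y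
    simp only [Pi.add_apply, mul_add, Finset.sum_add_distrib])
  have hℓ : ∀ i x, ℓ i x = ∑ j, U i j * x j := fun _ _ => rfl
  -- the functional modulo `d i`
  have hℓg : ∀ i x, (d i : ℤ) ∣ ℓ i (g x - ((p ^ e : ℕ) : ℤ) • x) := by
    intro i x
    have h1 : g x - ((p ^ e : ℕ) : ℤ) • x = ∑ m, x m • (g (sr m) - ((p ^ e : ℕ) : ℤ) • (sr m : Fin l → ℤ)) := by
      conv_lhs => rw [IsMC.eq_sum_sr x]
      rw [map_sum, Finset.smul_sum, ← Finset.sum_sub_distrib]
      refine Finset.sum_congr rfl fun m _ => ?_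
      rw [map_zsmul, smul_sub, smul_comm]
    rw [h1, map_sum]
    refine Finset.dvd_sum fun m _ => ?_
    rw [map_zsmul, smul_eq_mul]
    exact Dvd.dvd.mul_left (hU i m) _
  let φ : (∀ i, Fin (d i)) → (Fin l → ℤ) → k := fun a x => ∏ i, ζ i ^ (((a i : ℕ) : ℤ) * ℓ i x)
  have hφ : ∀ a, IsMC (φ a) := by
    intro a
    refine ⟨?_, fun x y => ?_⟩
    · show ∏ i, ζ i ^ (((a i : ℕ) : ℤ) * ℓ i 0) = 1
      simp only [_root_.map_zero, _root_.MulZeroClass.mul_zero, _root_.zpow_ofNat, _root_.pow_zero, _root_.Finset.prod_const_one]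
    · show ∏ i, ζ i ^ (((a i : ℕ) : ℤ) * ℓ i (x + y)) = _
      rw [← Finset.prod_mul_distrib]
      refine Finset.prod_congr rfl fun i _ => ?_
      rw [map_add, mul_add, zpow_add₀ (hζ0 i)]
  have hex : ∀ a, ∃ t ∈ TT D k, ∀ x, cX hp t x = φ a x := fun a =>
    exists_cX hp hB hd' (hφ a) (fun i => IsAlgClosed.exists_pow_nat_eq _ (Nat.pos_of_ne_zero hd'))
  choose t ht htφ using hex
  have hinj : Function.Injective t := by
    intro a b hab
    funext i
    have h1 : φ a (f i) = φ b (f i) := by rw [← htφ, ← htφ, hab]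
    have h2 : ∀ a : ∀ i, Fin (d i), φ a (f i) = ζ i ^ (a i : ℕ) := by
      intro a
      show ∏ j, ζ j ^ (((a j : ℕ) : ℤ) * ℓ j (f i)) = _
      rw [Finset.prod_eq_single i]
      · rw [hℓ, hUf, if_pos rfl, mul_one, zpow_natCast]
      · intro j _ hj
        rw [hℓ, hUf, if_neg hj, mul_zero, zpow_zero]
      · intro h
        exact absurd (Finset.mem_univ i) h
    rw [h2, h2] at h1
    exact Fin.ext ((hζ i).pow_inj (a i).2 (b i).2 h1)
  refine ⟨Finset.univ.image t, ?_, ?_⟩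
  · rw [Finset.card_image_of_injective _ hinj, Finset.card_univ, Fintype.card_pi]
    simp only [_root_.Fintype.card_fin]
  · intro y hy
    rw [Finset.mem_image] at hy
    obtain ⟨a, -, rfl⟩ := hy
    refine ⟨ht a, ?_⟩
    have hτt : τ (t a) ∈ TT D k := (F.tor (t a)).2 (ht a)
    refine cX_inj hp hτt (ht a) fun i => ?_
    have h1 := cX_sigma hp cs hτ F (ht a) (g.symm (sr i))
    rw [AddEquiv.apply_symm_apply] at h1
    rw [h1, htφ, htφ]
    show (∏ j, ζ j ^ (((a j : ℕ) : ℤ) * ℓ j (g.symm (sr i)))) ^ p ^ e = ∏ j, ζ j ^ (((a j : ℕ) : ℤ) * ℓ j (sr i))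
    rw [← Finset.prod_pow]
    refine Finset.prod_congr rfl fun j _ => ?_
    obtain ⟨c, hc⟩ := hℓg j (g.symm (sr i))
    rw [AddEquiv.apply_symm_apply, map_sub, map_zsmul, smul_eq_mul] at hc
    have h2 : ℓ j (sr i) = ((p ^ e : ℕ) : ℤ) * ℓ j (g.symm (sr i)) + (d j : ℤ) * c := by linarith
    rw [h2, mul_add, zpow_add₀ (hζ0 j)]
    have h3 : ζ j ^ (((a j : ℕ) : ℤ) * ((d j : ℤ) * c)) = 1 := by
      rw [mul_left_comm, zpow_mul, zpow_natCast, (hζ j).pow_eq_one, one_zpow]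
    rw [h3, mul_one, ← zpow_natCast, ← zpow_mul]
    congr 1
    ring

/-! ### the Weyl group -/

include hk in
/-- the system of the tower -/
theorem nsysT (p : ℕ) [Fact p.Prime] [CharP k p] : NSys M (TT D k) (nc hp k) := by
  have H := tow hp M.toCoxeterSystem hk p
  have h1 := H.nsys
  rwa [TL_eq hp hk] at h1

theorem rp_conv (p : ℕ) [Fact p.Prime] [CharP k p] (hN : NSys M (TT D k) (nc hp k)) {w : W} {n : ↥(D.group k)} :
    Rp cs (tow hp cs hk p).nsys w n ↔ Rp cs hN w n := by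
  have key : ∀ (T : Subgroup ↥(D.group k)) (h1 : NSys M T (nc hp k)) (_ : T = TT D k), Rp cs h1 w n ↔ Rp cs hN w n := by
    intro T h1 h2
    subst h2
    exact Iff.rfl
  exact key _ _ (TL_eq hp hk)

include hk in
/-- **Fixed representatives.** -/
theorem lemN (he : 0 < e) (hτ : IsFrob p e τ) (F : Fr cs hp.isCartan (TT D k) (XX D l k) τ g) {d' : ℕ}
    {B' : Fin l → Fin l → ℤ} (hB : InvC D l d' B') (hd' : d' ≠ 0) {hN : NSys M (TT D k) (nc hp k)} {w' : W}
    (hcomm : ∀ x, rep cs hp.isCartan w' (g x) = g (rep cs hp.isCartan w' x)) :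
    ∃ n', Rp cs hN w' n' ∧ τ n' = n' := by
  obtain ⟨n', hn'⟩ := exists_rp cs hN w'
  have F2 := fr_conj hp cs hk p hn'
  -- `c = n'⁻¹ τ(n')`
  set c := n'⁻¹ * τ n' with hc
  have hcT : c ∈ TT D k := by
    have hconj : MulAut.conj c = (MulAut.conj n')⁻¹ * (τ * (MulAut.conj n' * τ⁻¹)) := by
      apply MulEquiv.ext
      intro y
      have e1 : (MulAut.conj n')⁻¹ = MulAut.conj n'⁻¹ := (map_inv MulAut.conj n').symm
      rw [e1]
      show n'⁻¹ * τ n' * y * (n'⁻¹ * τ n')⁻¹ = n'⁻¹ * τ (n' * τ⁻¹ y * n'⁻¹) * n'⁻¹⁻¹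
      rw [map_mul, map_mul, map_inv, MulAut.apply_inv_self]
      group
    have F3 := F2.inv.mul (F.mul (F2.mul F.inv))
    rw [← hconj] at F3
    refine mem_TT_of_fr hp cs hk p hB hd' (fun x => ?_) F3
    show (repAut cs hp.isCartan w').symm (g ((repAut cs hp.isCartan w') (g.symm x))) = x
    rw [repAut_symm_apply, repAut_apply, ← hcomm, AddEquiv.apply_symm_apply, rep_inv_apply]
  obtain ⟨s, hs, h1⟩ := torus_lang hp cs he hτ F hB hd' hcT
  refine ⟨n' * s, hn'.mul_mem_right hs, ?_⟩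
  rw [map_mul]
  have e1 : τ n' = n' * c := by rw [hc]; group
  rw [e1, mul_assoc, ← h1]

/-! ### cells -/

/-- the positive roots with value 1 on `t` -/
def St (t : ↥(D.group k)) : Set (Fin l → ℤ) := {a | a ∈ RGD.Pos cs hp.isCartan ∧ cX hp t a = 1}

theorem St_pos (t : ↥(D.group k)) : St hp cs t ⊆ RGD.Pos cs hp.isCartan := fun _ h => h.1

theorem closed_St (Fm : _root_.Cfsg.Agent.H897.T5Lat.Frm cs hp.isCartan (bf (cartanOf D l))) {t : ↥(D.group k)} (ht : t ∈ TT D k) :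
    Closed cs hp.isCartan (St hp cs t) := by
  refine closed_of_add Fm (St_pos hp cs t) fun x hx y hy hxy => ⟨⟨hxy, add_nonneg hx.1.2 hy.1.2⟩, ?_⟩
  rw [(isMC_cX hp ht).add, hx.2, hy.2, one_mul]

theorem closed_NW (w : W) : Closed cs hp.isCartan (NW cs hp.isCartan w) := fun _ hx _ hy _ hz =>
  ⟨hz.1, RGD.nonneg_of_btwn hx.2.1 hy.2.1 hz, RGD.nonpos_of_btwn hx.2.2 hy.2.2 (hz.act w)⟩

include cs hk in
/-- the root groups centralising `t` -/
theorem Sup_comm (p : ℕ) [Fact p.Prime] [CharP k p] {t : ↥(D.group k)} (ht : t ∈ TT D k) {S : Set (Fin l → ℤ)}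
    (hS : ∀ a ∈ S, IsRoot cs hp.isCartan a ∧ cX hp t a = 1) {u : ↥(D.group k)} (hu : u ∈ RGD.Sup (XX D l k) S) :
    u * t = t * u := by
  have h1 : RGD.Sup (XX D l k) S ≤ Subgroup.centralizer {t} := by
    refine RGD.Sup_le fun a ha => ?_
    intro y hy
    obtain ⟨hr, h1⟩ := hS a ha
    rw [Subgroup.mem_centralizer_singleton_iff]
    have C := coordsL hp cs hk p
    obtain ⟨x, rfl⟩ := ((C.coord a hr).mem y).1 hy
    have h2 := (C.coord a hr).act t ht x
    rw [← cX_root hp cs ht hr, h1, one_mul] at h2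
    exact (mul_inv_eq_iff_eq_mul.1 h2).symm
  exact Subgroup.mem_centralizer_singleton_iff.1 (h1 hu)

/-- the elements of the cell of `w` -/
def InCell (hN : NSys M (TT D k) (nc hp k)) (w : W) (c : ↥(D.group k)) : Prop :=
  ∃ u ∈ RGD.Sup (XX D l k) (RGD.Pos cs hp.isCartan), ∃ n, Rp cs hN w n ∧
    ∃ v ∈ RGD.Sup (XX D l k) (NW cs hp.isCartan w), c = u * n * v

include hk in
theorem nf_unique (p : ℕ) [Fact p.Prime] [CharP k p] {hN : NSys M (TT D k) (nc hp k)} {w w' : W}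
    {u u' n n' v v' : ↥(D.group k)} (hu : u ∈ RGD.Sup (XX D l k) (RGD.Pos cs hp.isCartan))
    (hu' : u' ∈ RGD.Sup (XX D l k) (RGD.Pos cs hp.isCartan)) (hn : Rp cs hN w n) (hn' : Rp cs hN w' n')
    (hv : v ∈ RGD.Sup (XX D l k) (NW cs hp.isCartan w)) (hv' : v' ∈ RGD.Sup (XX D l k) (NW cs hp.isCartan w'))
    (e : u * n * v = u' * n' * v') : w = w' ∧ u = u' ∧ n = n' ∧ v = v' := by
  have H := tow hp cs hk p
  rw [← XL_eq hp hk] at hu hu' hv hv'
  exact H.normal_form_unique hu hu' ((rp_conv hp cs hk p hN).2 hn) ((rp_conv hp cs hk p hN).2 hn') hv hv' e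

include hk in
theorem InCell.unique (p : ℕ) [Fact p.Prime] [CharP k p] {hN : NSys M (TT D k) (nc hp k)} {w w' : W}
    {c : ↥(D.group k)} (h : InCell hp cs hN w c) (h' : InCell hp cs hN w' c) : w = w' := by
  obtain ⟨u, hu, n, hn, v, hv, e⟩ := h
  obtain ⟨u', hu', n', hn', v', hv', e'⟩ := h'
  exact (nf_unique hp cs hk p hu hu' hn hn' hv hv' (e.symm.trans e')).1

variable (Fm : _root_.Cfsg.Agent.H897.T5Lat.Frm cs hp.isCartan (bf (cartanOf D l)))

include hk Fm in
/-- **One cell.** -/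
theorem cell (he : 0 < e) (hτ : IsFrob p e τ) (F : Fr cs hp.isCartan (TT D k) (XX D l k) τ g) {d' : ℕ}
    {B' : Fin l → Fin l → ℤ} (hB : InvC D l d' B') (hd' : d' ≠ 0) {hN : NSys M (TT D k) (nc hp k)}
    {t : ↥(D.group k)} (ht : t ∈ TT D k) (hgS : ∀ a ∈ St hp cs t, g a ∈ St hp cs t)
    {sT : Finset ↥(D.group k)} (hsT : ∀ s ∈ sT, s ∈ TT D k ∧ τ s = s) {w' : W}
    (hcomm : ∀ x, rep cs hp.isCartan w' (g x) = g (rep cs hp.isCartan w' x))
    (hfix : ∀ x, cX hp t (rep cs hp.isCartan w' x) = cX hp t x) :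
    ∃ s : Finset ↥(D.group k),
      s.card = (p ^ e) ^ (St hp cs t).ncard * sT.card * (p ^ e) ^ (St hp cs t ∩ NW cs hp.isCartan w').ncard ∧
      ∀ c ∈ s, c * t = t * c ∧ τ c = c ∧ InCell hp cs hN w' c := by
  classical
  obtain ⟨n', hn', hτn'⟩ := lemN hp cs hk he hτ F hB hd' (hN := hN) hcomm
  have hSc := closed_St hp cs Fm ht
  obtain ⟨s1, hs1, h1⟩ := lemU hp cs hk Fm he hτ F _ (St hp cs t) rfl (St_pos hp cs t) hSc hgS
  have hSf : (St hp cs t).Finite :=
    (RGD.finite_roots (cs := cs) (h := hp.isCartan)).subset fun _ hx => hx.1.1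
  -- `g` is onto on `St`
  have hgS' : ∀ a ∈ St hp cs t, g.symm a ∈ St hp cs t := by
    have hinj : Set.InjOn g (St hp cs t) := g.injective.injOn
    have himg : g '' (St hp cs t) = St hp cs t :=
      Set.eq_of_subset_of_ncard_le (Set.image_subset_iff.2 hgS) (by rw [hinj.ncard_image]) hSf
    intro a ha
    rw [← himg] at ha
    obtain ⟨b, hb, rfl⟩ := ha
    rwa [AddEquiv.symm_apply_apply]
  have hgNW : ∀ a ∈ St hp cs t ∩ NW cs hp.isCartan w', g a ∈ St hp cs t ∩ NW cs hp.isCartan w' := by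
    rintro a ⟨ha, hw⟩
    refine ⟨hgS a ha, (hgS a ha).1.1, (hgS a ha).1.2, ?_⟩
    rw [hcomm]
    -- `- w' a` is in `St`
    have h2 : - rep cs hp.isCartan w' a ∈ St hp cs t := by
      refine ⟨⟨(hw.1.act w').neg, neg_nonneg.2 hw.2.2⟩, ?_⟩
      rw [(isMC_cX hp ht).neg, hfix, ha.2, inv_one]
    have h3 := (hgS _ h2).1.2
    rw [map_neg] at h3
    exact neg_nonneg.1 h3
  obtain ⟨s2, hs2, h2⟩ := lemU hp cs hk Fm he hτ F _ (St hp cs t ∩ NW cs hp.isCartan w') rfl
    (Set.inter_subset_left.trans (St_pos hp cs t)) (hSc.inter (closed_NW hp cs w')) hgNW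
  let f : (↥(D.group k) × ↥(D.group k)) × ↥(D.group k) → ↥(D.group k) := fun q => q.1.1 * (n' * q.1.2) * q.2
  have hU1 : ∀ u ∈ s1, u ∈ RGD.Sup (XX D l k) (RGD.Pos cs hp.isCartan) := fun u hu =>
    RGD.Sup_mono (St_pos hp cs t) (h1 u hu).1
  have hV1 : ∀ v ∈ s2, v ∈ RGD.Sup (XX D l k) (NW cs hp.isCartan w') := fun v hv =>
    RGD.Sup_mono Set.inter_subset_right (h2 v hv).1
  have hn't : n' * t = t * n' := by
    have h3 : n' * t * n'⁻¹ ∈ TT D k := (Subgroup.mem_normalizer_iff.1 hn'.mem_normalizer t).1 ht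
    have h4 : n' * t * n'⁻¹ = t := by
      refine cX_inj hp h3 ht fun i => ?_
      have h5 : (sr i : Fin l → ℤ) = rep cs hp.isCartan w' (rep cs hp.isCartan w'⁻¹ (sr i)) :=
        (rep_apply_inv _ _ _ _).symm
      rw [h5, cX_rp hp cs hk p hn' ht, hfix]
    exact mul_inv_eq_iff_eq_mul.1 h4
  have hinj : Set.InjOn f (((s1 ×ˢ sT) ×ˢ s2 : Finset _) : Set _) := by
    rintro ⟨⟨u, s⟩, v⟩ hx ⟨⟨u', s'⟩, v'⟩ hx' he'
    rw [Finset.mem_coe, Finset.mem_product, Finset.mem_product] at hx hx'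
    obtain ⟨⟨hu, hs⟩, hv⟩ := hx
    obtain ⟨⟨hu', hs'⟩, hv'⟩ := hx'
    simp only at hu hs hv hu' hs' hv'
    obtain ⟨-, e1, e2, e3⟩ := nf_unique hp cs hk p (hU1 u hu) (hU1 u' hu') (hn'.mul_mem_right (hsT s hs).1)
      (hn'.mul_mem_right (hsT s' hs').1) (hV1 v hv) (hV1 v' hv') he'
    rw [e1, mul_left_cancel e2, e3]
  refine ⟨((s1 ×ˢ sT) ×ˢ s2).image f, ?_, ?_⟩
  · rw [Finset.card_image_of_injOn hinj, Finset.card_product, Finset.card_product, hs1, hs2]
  · intro c hc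
    rw [Finset.mem_image] at hc
    obtain ⟨⟨⟨u, s⟩, v⟩, hx, rfl⟩ := hc
    rw [Finset.mem_product, Finset.mem_product] at hx
    obtain ⟨⟨hu, hs⟩, hv⟩ := hx
    simp only at hu hs hv
    have hut := Sup_comm hp cs hk p ht (fun a ha => ⟨ha.1.1, ha.2⟩) (h1 u hu).1
    have hvt := Sup_comm hp cs hk p ht (fun a ha => ⟨ha.1.1.1, ha.1.2⟩) (h2 v hv).1
    have hst : s * t = t * s := _root_.Cfsg.Agent.H720.TorusReal.TT_comm hp (hsT s hs).1 ht
    refine ⟨?_, ?_, u, hU1 u hu, n' * s, hn'.mul_mem_right (hsT s hs).1, v, hV1 v hv, rfl⟩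
    · show u * (n' * s) * v * t = t * (u * (n' * s) * v)
      calc u * (n' * s) * v * t = u * (n' * s) * (v * t) := by group
        _ = u * n' * (s * t) * v := by rw [hvt]; group
        _ = u * (n' * t) * s * v := by rw [hst]; group
        _ = (u * t) * n' * s * v := by rw [hn't]; group
        _ = _ := by rw [hut]; group
    · show τ (u * (n' * s) * v) = u * (n' * s) * v
      rw [map_mul, map_mul, map_mul, (h1 u hu).2, hτn', (hsT s hs).2, (h2 v hv).2]

include hk Fm in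
/-- **Several cells.** -/
theorem cells (he : 0 < e) (hτ : IsFrob p e τ) (F : Fr cs hp.isCartan (TT D k) (XX D l k) τ g) {d' : ℕ}
    {B' : Fin l → Fin l → ℤ} (hB : InvC D l d' B') (hd' : d' ≠ 0) {t : ↥(D.group k)} (ht : t ∈ TT D k)
    (hgS : ∀ a ∈ St hp cs t, g a ∈ St hp cs t) {sT : Finset ↥(D.group k)} (hsT : ∀ s ∈ sT, s ∈ TT D k ∧ τ s = s)
    (Ws : Finset W)
    (hcomm : ∀ w' ∈ Ws, ∀ x, rep cs hp.isCartan w' (g x) = g (rep cs hp.isCartan w' x))
    (hfix : ∀ w' ∈ Ws, ∀ x, cX hp t (rep cs hp.isCartan w' x) = cX hp t x) :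
    ∃ s : Finset ↥(D.group k),
      s.card = ∑ w' ∈ Ws, (p ^ e) ^ (St hp cs t).ncard * sT.card *
        (p ^ e) ^ (St hp cs t ∩ NW cs hp.isCartan w').ncard ∧
      ∀ c ∈ s, c * t = t * c ∧ τ c = c := by
  classical
  have hN : NSys M (TT D k) (nc hp k) := nsysT hp hk p
  have h1 : ∀ w' ∈ Ws, ∃ s : Finset ↥(D.group k),
      s.card = (p ^ e) ^ (St hp cs t).ncard * sT.card * (p ^ e) ^ (St hp cs t ∩ NW cs hp.isCartan w').ncard ∧
      ∀ c ∈ s, c * t = t * c ∧ τ c = c ∧ InCell hp cs hN w' c := fun w' hw' =>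
    cell hp cs hk Fm he hτ F hB hd' ht hgS hsT (hcomm w' hw') (hfix w' hw')
  choose! s hs h2 using h1
  refine ⟨Ws.biUnion s, ?_, ?_⟩
  · rw [Finset.card_biUnion]
    · exact Finset.sum_congr rfl fun w' hw' => hs w' hw'
    · intro x hx y hy hxy
      show Disjoint (s x) (s y)
      rw [Finset.disjoint_left]
      intro c hc hc'
      exact hxy (InCell.unique hp cs hk p (h2 x hx c hc).2.2 (h2 y hy c hc').2.2)
  · intro c hc
    rw [Finset.mem_biUnion] at hc
    obtain ⟨w', hw', hc⟩ := hc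
    exact ⟨(h2 w' hw' c hc).1, (h2 w' hw' c hc).2.1⟩

/-! ### connectedness, composite order -/

section Char

variable {N : ℕ} {B : Fin l → Fin l → ℤ} {d : ℕ} (hB : InvC D l d B) (hpd : d.Coprime N)

include hB hpd in
/-- **The character of an element of order `N` is the pairing with a lattice vector.** -/
theorem exists_mu' (hN0 : N ≠ 0) {ζ : k} (hζ : IsPrimitiveRoot ζ N) {t : ↥(D.group k)} (ht : t ∈ TT D k)
    (htp : t ^ N = 1) : ∃ μ : Fin l → ℤ, ∀ x, cX hp t x = ζ ^ (bf (cartanOf D l) μ x) := by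
  have hζ0 : ζ ≠ 0 := hζ.ne_zero hN0
  have h1 : ∀ i : Fin l, ∃ c : ℕ, ζ ^ c = cX hp t (sr i) := by
    intro i
    have h2 : cX hp t (sr i) ^ N = 1 := by rw [← cX_pow hp ht, htp, cX_one]
    have : NeZero N := ⟨hN0⟩
    obtain ⟨c, -, hc⟩ := hζ.eq_pow_of_pow_eq_one h2
    exact ⟨c, hc⟩
  choose c hc using h1
  obtain ⟨u, hu⟩ : ∃ u : ℤ, (N : ℤ) ∣ u * d - 1 := by
    have h2 : IsCoprime (d : ℤ) (N : ℤ) := Nat.isCoprime_iff_coprime.2 hpd
    obtain ⟨a, b, hab⟩ := h2
    exact ⟨a, ⟨-b, by linarith only [hab]⟩⟩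
  have hud : ζ ^ (u * d) = ζ := by
    obtain ⟨v, hv⟩ := hu
    have : u * d = 1 + N * v := by linarith only [hv]
    rw [this, zpow_add₀ hζ0, zpow_one, zpow_mul, zpow_natCast, hζ.pow_eq_one, one_zpow, mul_one]
  refine ⟨fun i => u * ∑ m, (c m : ℤ) * B m i, fun x => ?_⟩
  have h2 : bf (cartanOf D l) (fun i => u * ∑ m, (c m : ℤ) * B m i) x = (u * d) * ∑ j, (c j : ℤ) * x j := by
    rw [bf_apply, Finset.sum_comm, Finset.mul_sum]
    refine Finset.sum_congr rfl fun j _ => ?_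
    have h3 : ∀ m, ∑ i, B m i * cartanOf D l i j = if m = j then (d : ℤ) else 0 := fun m => hB m j
    calc ∑ i, u * (∑ m, (c m : ℤ) * B m i) * cartanOf D l i j * x j
        = u * (∑ i, ∑ m, (c m : ℤ) * (B m i * cartanOf D l i j)) * x j := by
          rw [Finset.mul_sum, Finset.sum_mul]
          refine Finset.sum_congr rfl fun i _ => ?_
          have : ∑ m, (c m : ℤ) * (B m i * cartanOf D l i j) = (∑ m, (c m : ℤ) * B m i) * cartanOf D l i j := by
            rw [Finset.sum_mul]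
            exact Finset.sum_congr rfl fun m _ => by ring
          rw [this]; ring
      _ = u * (∑ m, (c m : ℤ) * ∑ i, B m i * cartanOf D l i j) * x j := by
          rw [Finset.sum_comm]
          congr 2
          refine Finset.sum_congr rfl fun m _ => ?_
          rw [Finset.mul_sum]
      _ = u * ((c j : ℤ) * d) * x j := by
          congr 2
          rw [Finset.sum_eq_single j]
          · rw [h3, if_pos rfl]
          · intro m _ hm
            rw [h3, if_neg hm, mul_zero]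
          · intro hj; exact absurd (Finset.mem_univ j) hj
      _ = _ := by ring
  rw [h2, zpow_mul, hud]
  rw [(isMC_cX hp ht).eq_prod x]
  have h3 : ∀ s : Finset (Fin l), ∏ i ∈ s, cX hp t (sr i) ^ x i = ζ ^ (∑ j ∈ s, (c j : ℤ) * x j) := by
    intro s
    classical
    induction s using Finset.induction_on with
    | empty => rw [Finset.prod_empty, Finset.sum_empty, zpow_zero]
    | insert a s ha ih =>
      rw [Finset.prod_insert ha, Finset.sum_insert ha, ih, zpow_add₀ hζ0, ← hc a, ← zpow_natCast, ← zpow_mul]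
  exact h3 _

include Fm hB hpd in
/-- **Connected centralisers**, simply laced groups, `N` prime to the determinant and to the characteristic. -/
theorem con_of_frm' (hN0 : N ≠ 0) (hNp : N.Coprime p) : _root_.Cfsg.Agent.H897.T5Cent.Con hp cs hk p N := by
  intro t ht htp w hw
  obtain ⟨ζ, hζ⟩ := exists_prim' (k := k) p hN0 hNp
  obtain ⟨μ, hμ⟩ := exists_mu' hp hB hpd hN0 hζ ht htp
  have h1 : ∀ x, cX hp t (repAut cs hp.isCartan w x) = cX hp t x := by
    have h2 : IsMC fun x => cX hp t (repAut cs hp.isCartan w x) :=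
      (isMC_cX hp ht).comp (repAut cs hp.isCartan w).toAddMonoidHom
    refine fun x => h2.ext (isMC_cX hp ht) (fun i => ?_) x
    show cX hp t (rep cs hp.isCartan w (sr i)) = _
    rw [cX_root hp cs ht ((isRoot_sr cs hp.isCartan i).act w), cX_root hp cs ht (isRoot_sr cs hp.isCartan i)]
    exact hw _ (isRoot_sr cs hp.isCartan i) t rfl
  obtain ⟨l0, hl0⟩ := fix_class hp cs hB hpd Fm hζ hN0 hμ (θ := repAut cs hp.isCartan w)
    (fun x y => Fm.inv w x y) h1
  exact VV_le hp cs hk p hζ ht Fm hμ (H897.T5Lat.mem_VV_of_rep Fm (Nat.pos_of_ne_zero hN0) hl0)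

end Char

/-! ### transfer to the finite group -/

section Transfer

open Cfsg.Agent.BpExc.FamUntw Cfsg.Agent.BpExc.FamInst Cfsg.Agent.BpExc.FamField

variable {F0 : Type u} [Field F0] [Finite F0] (f : F0 →+* k) {n : ℕ} (hn : Nat.card F0 = p ^ n)
  {B : Fin l → Fin l → ℤ} (hB : InvC D l 1 B)

include hk Fm hn hB in
/-- **Lower bounds for centralisers in `D.group F0`.** -/
theorem cent_bound (hn0 : 0 < n) {N : ℕ} (hN0 : N ≠ 0) (hNp : N.Coprime p) {x : ↥(D.group F0)} (hx : x ^ N = 1)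
    {z t : ↥(D.group k)} (hz : z⁻¹ * emb hp.inList f x * z = t) (ht : t ∈ TT D k) (w : W)
    (hw : ∀ a, cX hp t (rep cs hp.isCartan w a) = cX hp t a ^ p ^ n)
    (hwS : ∀ a ∈ St hp cs t, rep cs hp.isCartan w a ∈ St hp cs t)
    (d : Fin l → ℕ) (hd0 : ∀ i, d i ≠ 0) (hdp : ∀ i, (d i).Coprime p) (U fv : Fin l → Fin l → ℤ)
    (hUf : ∀ i j, ∑ m, U i m * fv j m = if i = j then 1 else 0)
    (hU : ∀ i m, (d i : ℤ) ∣ ∑ j, U i j * (rep cs hp.isCartan w (sr m) -
      ((p ^ n : ℕ) : ℤ) • (sr m : Fin l → ℤ)) j) (Ws : Finset W)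
    (hcomm : ∀ w' ∈ Ws, w' * w = w * w')
    (hfix : ∀ w' ∈ Ws, ∀ a, cX hp t (rep cs hp.isCartan w' a) = cX hp t a) :
    ∑ w' ∈ Ws, (p ^ n) ^ (St hp cs t).ncard * (∏ i, d i) * (p ^ n) ^ (St hp cs t ∩ NW cs hp.isCartan w').ncard ≤
      Nat.card ↥(Subgroup.centralizer {x}) := by
  classical
  have hN : NSys M (TT D k) (nc hp k) := nsysT hp hk p
  set σ := phi D k p n with hσ
  have hσF : IsFrob p n σ := phi_isFrob p n
  have F : Fr cs hp.isCartan (TT D k) (XX D l k) σ (AddEquiv.refl _) := phi_fr hp cs p hk n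
  have hσx : σ (emb hp.inList f x) = emb hp.inList f x := Cfsg.Agent.H378.TorFin.phi_emb' hp f p hn x
  obtain ⟨n1, hn1⟩ := exists_rp cs hN w
  have hσt : σ t ∈ TT D k := (F.tor t).2 ht
  have hnt : n1 * σ t * n1⁻¹ = t := (tau_iff hp cs hk hσF F hn1 ht).2 hw
  have htN : t ^ N = 1 := by
    rw [← hz]
    have h1 : (z⁻¹ * emb hp.inList f x * z) ^ N = z⁻¹ * (emb hp.inList f x) ^ N * z := by
      have := conj_pow (i := N) (a := z⁻¹) (b := emb hp.inList f x)
      rwa [inv_inv] at this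
    rw [h1, ← map_pow, hx, map_one, mul_one, inv_mul_cancel]
  have hC := con_of_frm' (p := p) hp cs hk Fm hB (N := N) (Nat.coprime_one_left N) hN0 hNp
  obtain ⟨z1, hz1, hz2⟩ := star hp cs hk p hC hn0 hσF F hB one_ne_zero hn1 hσx hz ht htN hnt
  -- the twisted Frobenius map
  set τ := MulAut.conj n1 * σ with hτ
  have hτF : IsFrob p n τ := hσF.conj_mul n1
  have F1 : Fr cs hp.isCartan (TT D k) (XX D l k) τ ((AddEquiv.refl _).trans (repAut cs hp.isCartan w)) :=
    (fr_conj hp cs hk p hn1).mul F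
  have hg : ∀ a, ((AddEquiv.refl (Fin l → ℤ)).trans (repAut cs hp.isCartan w)) a = rep cs hp.isCartan w a :=
    fun _ => rfl
  obtain ⟨sT, hsT, hsT2⟩ := lemT hp cs hk hτF F1 hB one_ne_zero d hd0 hdp U fv hUf hU
  obtain ⟨s, hs, hs2⟩ := cells hp cs hk Fm hn0 hτF F1 hB one_ne_zero ht hwS hsT2 Ws (by
    intro w' hw' a
    rw [hg, hg, ← rep_mul_apply, ← rep_mul_apply, hcomm w' hw']) hfix
  rw [hsT] at hs
  rw [← hs]
  -- the embedding
  have hfix' : ∀ c ∈ s, ∃ c0 : ↥(D.group F0), emb hp.inList f c0 = z1 * c * z1⁻¹ ∧ c0 ∈ Subgroup.centralizer {x} := by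
    intro c hc
    obtain ⟨h1, h2⟩ := hs2 c hc
    have h3 : σ z1 = z1 * n1 := by rw [← hz1]; group
    have h4 : σ (z1 * c * z1⁻¹) = z1 * c * z1⁻¹ := by
      have h5 : n1 * σ c * n1⁻¹ = c := h2
      rw [map_mul, map_mul, map_inv, h3]
      calc z1 * n1 * σ c * (z1 * n1)⁻¹ = z1 * (n1 * σ c * n1⁻¹) * z1⁻¹ := by group
        _ = _ := by rw [h5]
    obtain ⟨c0, hc0⟩ := Cfsg.Agent.H378.TorFin.fix_mem hp f p hn hB h4
    refine ⟨c0, hc0, ?_⟩
    rw [Subgroup.mem_centralizer_singleton_iff]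
    apply emb_injective hp.inList f
    rw [map_mul, map_mul, hc0]
    have h5 : emb hp.inList f x = z1 * t * z1⁻¹ := by rw [← hz2]; group
    rw [h5]
    calc z1 * c * z1⁻¹ * (z1 * t * z1⁻¹) = z1 * (c * t) * z1⁻¹ := by group
      _ = z1 * (t * c) * z1⁻¹ := by rw [h1]
      _ = _ := by group
  choose! c0 hc0 hc1 using hfix'
  have hfin : Finite ↥(D.group F0) := inferInstance
  have h6 : (s.image c0).card = s.card := Finset.card_image_of_injOn (by
    intro a ha b hb hab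
    have h7 := hc0 a ha
    rw [hab, hc0 b hb] at h7
    exact (mul_left_cancel (mul_right_cancel h7)).symm)
  rw [← h6, ← Set.ncard_coe_finset]
  have h8 : ((s.image c0 : Finset ↥(D.group F0)) : Set ↥(D.group F0)) ⊆
      (Subgroup.centralizer {x} : Subgroup ↥(D.group F0)) := by
    intro y hy
    rw [Finset.mem_coe, Finset.mem_image] at hy
    obtain ⟨c, hc, rfl⟩ := hy
    exact hc1 c hc
  exact Set.ncard_le_ncard h8 (Set.toFinite _)

end Transfer

end

end Cfsg.Agent.H942.CB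
end

private theorem dce_280ce4651d09 : _root_.True := by
  try have : _root_.True := by simp only [_root_.Cfsg.Agent.H942.CB.pr.eq_def]
  try have : _root_.True := by simp only [_root_.Cfsg.Agent.H942.CB.pr.eq_1]
  try have : _root_.True := by simp only [_root_.Cfsg.Agent.H942.CB.pr.eq_2]
  exact _root_.True.intro
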